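import Groth.Prelude.Def_SGA4a
import Groth.Agent.Lib.ToposFin.Main
import Mathlib.CategoryTheory.Sites.Sheafification
import Mathlib.CategoryTheory.Sites.LeftExact

/-!
# The closed complement of an open of a sheaf topos, as sheaves for a finer topology
-/

set_option autoImplicit false

universe u

open CategoryTheory CategoryTheory.Limits Opposite ToposFin

namespace Groth.Agent.ClosedOpen

open Groth.Agent.Topos

variable {C : Type u} [SmallCategory C] {J : GrothendieckTopology C}

theorem subsingleton_terminal (c : C) :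
    Subsingleton ((⊤_ (Sheaf J (Type u))).obj.obj (op c)) := ⟨fun s t => by
  rw [← epsDesc_epsSec J s, ← epsDesc_epsSec J t,
    show epsDesc J s = epsDesc J t from terminalIsTerminal.hom_ext _ _]⟩

theorem prod_ext {A B : Sheaf J (Type u)} {c : C} {x y : (A ⨯ B).obj.obj (op c)}
    (h₁ : (prod.fst : A ⨯ B ⟶ A).hom.app (op c) x = (prod.fst : A ⨯ B ⟶ A).hom.app (op c) y)
    (h₂ : (prod.snd : A ⨯ B ⟶ B).hom.app (op c) x = (prod.snd : A ⨯ B ⟶ B).hom.app (op c) y) :
    x = y := by
  have := subsingleton_terminal (J := J) c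
  obtain ⟨z, -, hz⟩ := exists_section_of_isPullback (IsPullback.of_hasBinaryProduct' A B)
    ((prod.fst : A ⨯ B ⟶ A).hom.app (op c) x) ((prod.snd : A ⨯ B ⟶ B).hom.app (op c) x)
    (Subsingleton.elim _ _)
  exact (hz x ⟨rfl, rfl⟩).trans (hz y ⟨h₁.symm, h₂.symm⟩).symm

theorem prod_exists {A B : Sheaf J (Type u)} {c : C} (a : A.obj.obj (op c)) (b : B.obj.obj (op c)) :
    ∃ x : (A ⨯ B).obj.obj (op c), (prod.fst : A ⨯ B ⟶ A).hom.app (op c) x = a ∧
      (prod.snd : A ⨯ B ⟶ B).hom.app (op c) x = b := by
  have := subsingleton_terminal (J := J) c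
  exact (exists_section_of_isPullback (IsPullback.of_hasBinaryProduct' A B) a b
    (Subsingleton.elim _ _)).exists

theorem isIso_of_bijective {A B : Sheaf J (Type u)} (f : A ⟶ B)
    (h : ∀ c : C, Function.Bijective (f.hom.app (op c))) : IsIso f := by
  have : ∀ c, IsIso (f.hom.app c) := fun c => (isIso_iff_bijective _).2 (h c.unop)
  have : IsIso ((sheafToPresheaf J (Type u)).map f) := NatIso.isIso_of_isIso_app f.hom
  exact isIso_of_reflects_iso f (sheafToPresheaf J (Type u))

theorem app_bijective_of_isIso {A B : Sheaf J (Type u)} (f : A ⟶ B) [IsIso f] (c : C) :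
    Function.Bijective (f.hom.app (op c)) :=
  (isIso_iff_bijective _).1
    (inferInstanceAs (IsIso (((sheafToPresheaf J (Type u)).map f).app (op c))))

variable {U : Sheaf J (Type u)}

theorem subsingleton_open (hU : SGA4.IsOpen U) (c : C) : Subsingleton (U.obj.obj (op c)) :=
  have : Mono (terminal.from U) := hU
  have := subsingleton_terminal (J := J) c
  ⟨fun _ _ => injective_app_of_mono (terminal.from U) (op c) (Subsingleton.elim _ _)⟩

theorem closed_iff (hU : SGA4.IsOpen U) (X : Sheaf J (Type u)) :
    SGA4.closedCompl U X ↔ ∀ c (_ : U.obj.obj (op c)),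
      Nonempty (X.obj.obj (op c)) ∧ Subsingleton (X.obj.obj (op c)) := by
  constructor
  · intro h c u
    have : IsIso (prod.fst : U ⨯ X ⟶ U) := h
    have hb := app_bijective_of_isIso (prod.fst : U ⨯ X ⟶ U) c
    obtain ⟨z, hz⟩ := hb.2 u
    refine ⟨⟨(prod.snd : U ⨯ X ⟶ X).hom.app (op c) z⟩, ⟨fun x y => ?_⟩⟩
    obtain ⟨z₁, h₁, rfl⟩ := prod_exists u x
    obtain ⟨z₂, h₂, rfl⟩ := prod_exists u y
    rw [hb.1 (h₁.trans h₂.symm)]
  · intro h
    refine isIso_of_bijective _ fun c => ⟨fun x y e => prod_ext e ?_, fun u => ?_⟩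
    · have := (h c ((prod.fst : U ⨯ X ⟶ U).hom.app (op c) x)).2
      exact Subsingleton.elim _ _
    · obtain ⟨⟨x⟩, -⟩ := h c u
      obtain ⟨z, hz, -⟩ := prod_exists u x
      exact ⟨z, hz⟩

/-- The sieve of arrows from objects over the open. -/
def uSieve (U : Sheaf J (Type u)) (c : C) : Sieve c where
  arrows d _ := Nonempty (U.obj.obj (op d))
  downward_closed := fun {_ _ _} ⟨u⟩ g => ⟨U.obj.map g.op u⟩

theorem uSieve_pullback (U : Sheaf J (Type u)) {c d : C} (f : d ⟶ c) :
    (uSieve U c).pullback f = uSieve U d := rfl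

variable (U) in
/-- The topology of the closed complement. -/
def closedTop : GrothendieckTopology C where
  sieves c := {S | S ⊔ uSieve U c ∈ J c}
  top_mem' c := J.superset_covering le_sup_left (J.top_mem c)
  pullback_stable' c d S f h := by
    have := J.pullback_stable f h
    change S.pullback f ⊔ uSieve U d ∈ J d
    convert this using 1
    ext e g
    rfl
  transitive' c S h R hR := by
    refine J.transitive h _ fun d f hf => ?_
    rcases hf with hf | hf
    · exact J.superset_covering (fun e g hg => hg) (hR hf)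
    · obtain ⟨u⟩ := hf
      exact J.superset_covering (fun e g _ => Or.inr ⟨U.obj.map g.op u⟩) (J.top_mem d)

theorem le_closedTop : J ≤ closedTop U := fun _ _ h => J.superset_covering le_sup_left h

theorem bot_mem_closedTop {c : C} (u : U.obj.obj (op c)) : (⊥ : Sieve c) ∈ closedTop U c :=
  J.superset_covering (fun _ g _ => Or.inr ⟨U.obj.map g.op u⟩) (J.top_mem c)

theorem isSheaf_closedTop_iff (hU : SGA4.IsOpen U) (X : Sheaf J (Type u)) :
    Presieve.IsSheaf (closedTop U) X.obj ↔ SGA4.closedCompl U X := by
  rw [closed_iff hU]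
  constructor
  · intro h c u
    obtain ⟨x, -, hx⟩ := h _ (bot_mem_closedTop u) (fun _ _ hf => False.elim hf) (fun _ _ _ _ _ _ _ hf => False.elim hf)
    exact ⟨⟨x⟩, ⟨fun a b => (hx a fun _ _ hf => False.elim hf).trans (hx b fun _ _ hf => False.elim hf).symm⟩⟩
  · intro h c S hS φ hφ
    classical
    have hX := (isSheaf_iff_isSheaf_of_type J X.obj).1 X.property
    let ψ : Presieve.FamilyOfElements X.obj ((S ⊔ uSieve U c : Sieve c) : Presieve c) := fun d f hf =>
      if hS : S f then φ f hS else (h d (hf.resolve_left hS).some).1.some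
    have hψS : ∀ ⦃d⦄ (f : d ⟶ c) (hf : S f) h', ψ f h' = φ f hf := fun d f hf h' => dif_pos hf
    have hψ : ψ.Compatible := by
      intro d₁ d₂ e g₁ g₂ f₁ f₂ h₁ h₂ he
      by_cases hu : Nonempty (U.obj.obj (op e))
      · obtain ⟨u⟩ := hu
        have := (h e u).2
        exact Subsingleton.elim _ _
      · have h₁' : S f₁ := h₁.resolve_right fun ⟨u⟩ => hu ⟨U.obj.map g₁.op u⟩
        have h₂' : S f₂ := h₂.resolve_right fun ⟨u⟩ => hu ⟨U.obj.map g₂.op u⟩
        rw [hψS f₁ h₁' h₁, hψS f₂ h₂' h₂]
        exact hφ g₁ g₂ h₁' h₂' he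
    obtain ⟨x, hx, hxu⟩ := hX _ hS ψ hψ
    refine ⟨x, fun d f hf => (hx f (Or.inl hf)).trans (hψS f hf (Or.inl hf)), fun y hy => hxu y ?_⟩
    intro d f hf
    by_cases hS' : S f
    · exact (hy f hS').trans (hψS f hS' hf).symm
    · have := (h d (hf.resolve_left hS').some).2
      exact Subsingleton.elim _ _

variable (hU : SGA4.IsOpen U)

/-- Sheaves for the finer topology, as objects of the closed complement. -/
def toClosed : Sheaf (closedTop U) (Type u) ⥤ (SGA4.closedCompl U).FullSubcategory where
  obj P := ⟨⟨P.obj, (isSheaf_iff_isSheaf_of_type _ _).2 (Presieve.isSheaf_of_le P.obj le_closedTop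
      ((isSheaf_iff_isSheaf_of_type _ _).1 P.property))⟩,
    (isSheaf_closedTop_iff hU _).1 ((isSheaf_iff_isSheaf_of_type _ _).1 P.property)⟩
  map f := ⟨⟨f.hom⟩⟩

/-- Objects of the closed complement, as sheaves for the finer topology. -/
def fromClosed : (SGA4.closedCompl U).FullSubcategory ⥤ Sheaf (closedTop U) (Type u) where
  obj X := ⟨X.obj.obj, (isSheaf_iff_isSheaf_of_type _ _).2 ((isSheaf_closedTop_iff hU _).2 X.property)⟩
  map f := ⟨f.hom.hom⟩

/-- The closed complement is a sheaf topos. -/
def closedEquiv : Sheaf (closedTop U) (Type u) ≌ (SGA4.closedCompl U).FullSubcategory where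
  functor := toClosed hU
  inverse := fromClosed hU
  unitIso := NatIso.ofComponents fun _ => Iso.refl _
  counitIso := NatIso.ofComponents fun _ => Iso.refl _

variable (U) in
/-- The reflection. -/
noncomputable def reflect : Sheaf J (Type u) ⥤ Sheaf (closedTop U) (Type u) :=
  sheafToPresheaf J (Type u) ⋙ presheafToSheaf (closedTop U) (Type u)

/-- The reflection into the closed complement. -/
noncomputable def closedPull : Sheaf J (Type u) ⥤ (SGA4.closedCompl U).FullSubcategory :=
  reflect U ⋙ toClosed hU

/-- It is left adjoint to the inclusion. -/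
noncomputable def closedAdj : closedPull hU ⊣ (SGA4.closedCompl U).ι :=
  Adjunction.mkOfHomEquiv
    { homEquiv := fun X Z =>
        { toFun := fun f => ⟨toSheafify (closedTop U) X.obj ≫ f.hom.hom⟩
          invFun := fun g => ⟨⟨sheafifyLift (closedTop U) g.hom ((fromClosed hU).obj Z).property⟩⟩
          left_inv := fun f => by
            apply InducedCategory.hom_ext
            apply InducedCategory.hom_ext
            exact (sheafifyLift_unique _ _ _ _ rfl).symm
          right_inv := fun g => by
            apply InducedCategory.hom_ext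
            exact toSheafify_sheafifyLift _ _ _ }
      homEquiv_naturality_left_symm := fun {X' X Z} f g => by
        apply InducedCategory.hom_ext
        apply InducedCategory.hom_ext
        refine (sheafifyLift_unique _ _ _ _ ?_).symm
        change toSheafify _ _ ≫ sheafifyMap (closedTop U) f.hom ≫ sheafifyLift _ g.hom _ = f.hom ≫ g.hom
        rw [← Category.assoc, ← toSheafify_naturality, Category.assoc, toSheafify_sheafifyLift]
      homEquiv_naturality_right := fun {X Z Z'} f g => by
        apply InducedCategory.hom_ext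
        exact (Category.assoc _ _ _).symm }

theorem preservesFiniteLimits_closedPull : PreservesFiniteLimits (closedPull hU) := by
  have : (toClosed hU).IsEquivalence := (closedEquiv hU).isEquivalence_functor
  have : PreservesFiniteLimits (reflect U) :=
    comp_preservesFiniteLimits (sheafToPresheaf J (Type u)) (presheafToSheaf (closedTop U) (Type u))
  exact comp_preservesFiniteLimits (reflect U) (toClosed hU)

end Groth.Agent.ClosedOpen
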