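import Groth.Agent.Lib.ClosedOpen.Basic
import Mathlib.CategoryTheory.Sites.CartesianClosed
import Mathlib.CategoryTheory.Sites.EpiMono
import Mathlib.CategoryTheory.Comma.Over.Pullback
import Mathlib.CategoryTheory.Adjunction.Triple
import Mathlib.CategoryTheory.Adjunction.FullyFaithful
import Mathlib.CategoryTheory.Adjunction.Unique

/-!
# Gluing of a sheaf topos from an open and its closed complement
-/

set_option autoImplicit false

universe u

open CategoryTheory CategoryTheory.Limits Opposite MonoidalCategory

namespace Groth.Agent.ClosedOpen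

variable {C : Type u} [SmallCategory C] {J : GrothendieckTopology C} {U : Sheaf J (Type u)}

theorem open_hom_ext (hU : SGA4.IsOpen U) {T : Sheaf J (Type u)} (a b : T ⟶ U) : a = b :=
  have : Mono (terminal.from U) := hU
  (cancel_mono (terminal.from U)).1 (Subsingleton.elim _ _)

theorem star_obj_left (A : Sheaf J (Type u)) : ((Over.star U).obj A).left = (U ⨯ A) := rfl

theorem star_obj_hom (A : Sheaf J (Type u)) : ((Over.star U).obj A).hom = prod.fst := by
  simp [Over.star, coalgebraToOver]
  exact prod.lift_fst _ _

theorem star_map_left {A B : Sheaf J (Type u)} (m : A ⟶ B) :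
    ((Over.star U).map m).left = prod.map (𝟙 U) m := rfl

/-- The map from the open to an object of the closed complement. -/
noncomputable def point {X : Sheaf J (Type u)} (hX : SGA4.closedCompl U X) : U ⟶ X :=
  have : IsIso (prod.fst : U ⨯ X ⟶ U) := hX
  inv (prod.fst : U ⨯ X ⟶ U) ≫ prod.snd

theorem hom_closed_unique {X : Sheaf J (Type u)} (hX : SGA4.closedCompl U X) {T : Sheaf J (Type u)}
    (t : T ⟶ U) (g : T ⟶ X) : g = t ≫ point hX := by
  have : IsIso (prod.fst : U ⨯ X ⟶ U) := hX
  have : prod.lift t g = t ≫ inv (prod.fst : U ⨯ X ⟶ U) := by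
    rw [← cancel_mono (prod.fst : U ⨯ X ⟶ U), prod.lift_fst, Category.assoc, IsIso.inv_hom_id,
      Category.comp_id]
  rw [point, ← Category.assoc, ← this, prod.lift_snd]

theorem closed_of_iso {X Y : Sheaf J (Type u)} (e : X ≅ Y) (hY : SGA4.closedCompl U Y) :
    SGA4.closedCompl U X := by
  have : IsIso (prod.fst : U ⨯ Y ⟶ U) := hY
  change IsIso (prod.fst : U ⨯ X ⟶ U)
  have : (prod.fst : U ⨯ X ⟶ U) = (prod.mapIso (Iso.refl U) e).hom ≫ prod.fst := by simp
  rw [this]
  infer_instance

theorem closed_pushout (hU : SGA4.IsOpen U) (Y : Sheaf J (Type u)) :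
    SGA4.closedCompl U (pushout (prod.fst : U ⨯ Y ⟶ U) (prod.snd : U ⨯ Y ⟶ Y)) := by
  let P := pushout (prod.fst : U ⨯ Y ⟶ U) (prod.snd : U ⨯ Y ⟶ Y)
  let inl : U ⟶ P := pushout.inl _ _
  let inr : Y ⟶ P := pushout.inr _ _
  have hp := (IsPushout.of_hasPushout (prod.fst : U ⨯ Y ⟶ U) (prod.snd : U ⨯ Y ⟶ Y)).map
    (tensorLeft U)
  have key : (CartesianMonoidalCategory.snd U P) = CartesianMonoidalCategory.fst U P ≫ inl := by
    refine hp.hom_ext ?_ ?_
    · refine (CartesianMonoidalCategory.whiskerLeft_snd U inl).trans
        (Eq.trans ?_ (CartesianMonoidalCategory.whiskerLeft_fst_assoc U inl inl).symm)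
      rw [open_hom_ext hU (CartesianMonoidalCategory.snd U U) (CartesianMonoidalCategory.fst U U)]
    · refine (CartesianMonoidalCategory.whiskerLeft_snd U inr).trans
        (Eq.trans ?_ (CartesianMonoidalCategory.whiskerLeft_fst_assoc U inr inl).symm)
      let l : U ⊗ Y ⟶ U ⨯ Y := prod.lift (CartesianMonoidalCategory.fst U Y) (CartesianMonoidalCategory.snd U Y)
      have := l ≫= (pushout.condition (f := (prod.fst : U ⨯ Y ⟶ U)) (g := (prod.snd : U ⨯ Y ⟶ Y)))
      rw [prod.lift_fst_assoc, prod.lift_snd_assoc] at this
      exact this.symm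
  change IsIso (prod.fst : U ⨯ P ⟶ U)
  refine ⟨prod.lift (𝟙 U) inl, prod.hom_ext (open_hom_ext hU _ _) ?_, prod.lift_fst _ _⟩
  rw [Category.assoc, prod.lift_snd, Category.id_comp]
  have := (CartesianMonoidalCategory.lift (prod.fst : U ⨯ P ⟶ U) prod.snd) ≫= key
  rw [CartesianMonoidalCategory.lift_snd, CartesianMonoidalCategory.lift_fst_assoc] at this
  exact this.symm

theorem pushout_inr_isIso_iff (hU : SGA4.IsOpen U) (X : Sheaf J (Type u)) :
    SGA4.closedCompl U X ↔ IsIso (pushout.inr (prod.fst : U ⨯ X ⟶ U) (prod.snd : U ⨯ X ⟶ X)) := by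
  constructor
  · intro h
    have : IsIso (prod.fst : U ⨯ X ⟶ U) := h
    infer_instance
  · intro h
    exact closed_of_iso
      (asIso (pushout.inr (prod.fst : U ⨯ X ⟶ U) (prod.snd : U ⨯ X ⟶ X))) (closed_pushout hU X)

variable (hU : SGA4.IsOpen U) {L : Sheaf J (Type u) ⥤ (SGA4.closedCompl U).FullSubcategory}
  (adj : L ⊣ (SGA4.closedCompl U).ι)

include adj in
theorem nonempty_iso_pushout (hU : SGA4.IsOpen U) (X : Sheaf J (Type u)) :
    Nonempty (((SGA4.closedCompl U).ι).obj (L.obj X) ≅
      pushout (prod.fst : U ⨯ X ⟶ U) (prod.snd : U ⨯ X ⟶ X)) := by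
  let P : (SGA4.closedCompl U).FullSubcategory := ⟨_, closed_pushout hU X⟩
  let a : L.obj X ⟶ P := (adj.homEquiv X P).symm (pushout.inr _ _)
  have ha : adj.unit.app X ≫ (SGA4.closedCompl U).ι.map a = pushout.inr _ _ := by
    exact (adj.homEquiv_unit X P a).symm.trans (Equiv.apply_symm_apply _ _)
  let Z := (SGA4.closedCompl U).ι.obj (L.obj X)
  have hZ : SGA4.closedCompl U Z := (L.obj X).property
  let b : P.obj ⟶ Z := pushout.desc (point hZ) (adj.unit.app X)
    ((hom_closed_unique hZ _ _).trans (hom_closed_unique hZ prod.fst (prod.snd ≫ adj.unit.app X)).symm)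
  refine ⟨⟨(SGA4.closedCompl U).ι.map a, b, ?_, ?_⟩⟩
  · have : a ≫ ObjectProperty.homMk b = 𝟙 _ := by
      apply (adj.homEquiv X (L.obj X)).injective
      rw [adj.homEquiv_unit, adj.homEquiv_unit, Functor.map_comp, ← Category.assoc, ha]
      exact (pushout.inr_desc _ _ _).trans (Category.comp_id _).symm
    exact congrArg (fun t => t.hom) this
  · refine pushout.hom_ext ?_ ?_
    · exact (hom_closed_unique P.property (𝟙 U) _).trans (hom_closed_unique P.property (𝟙 U) _).symm
    · rw [Category.comp_id, ← Category.assoc]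
      exact (congrArg (· ≫ _) (pushout.inr_desc _ _ _)).trans ha

theorem prodMap_bijective_of_star {X Y : Sheaf J (Type u)} (m : X ⟶ Y)
    [IsIso ((Over.star U).map m)] (c : C) :
    Function.Bijective ((prod.map (𝟙 U) m).hom.app (op c)) := by
  have : IsIso (prod.map (𝟙 U) m) := by
    rw [← star_map_left]
    exact inferInstanceAs (IsIso ((Over.forget U).map ((Over.star U).map m)))
  exact app_bijective_of_isIso _ c

include hU adj in
theorem isIso_of_star_of_closed {X Y : Sheaf J (Type u)} (m : X ⟶ Y)
    [IsIso ((Over.star U).map m)] [IsIso (L.map m)] : IsIso m := by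
  have h1 : IsIso ((closedPull hU).map m) :=
    (NatIso.isIso_map_iff (adj.leftAdjointUniq (closedAdj hU)) m).1 inferInstance
  have h2 : IsIso ((reflect U).map m) := by
    have : (toClosed hU).IsEquivalence := (closedEquiv hU).isEquivalence_functor
    have : IsIso ((toClosed hU).map ((reflect U).map m)) := h1
    exact isIso_of_reflects_iso _ (toClosed hU)
  have h3 : IsIso ((presheafToSheaf (closedTop U) (Type u)).map m.hom) := h2
  have hinj : Presheaf.IsLocallyInjective (closedTop U) m.hom :=
    (Presheaf.isLocallyInjective_presheafToSheaf_map_iff (closedTop U) m.hom).1 inferInstance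
  have hsurj : Presheaf.IsLocallySurjective (closedTop U) m.hom :=
    (Presheaf.isLocallySurjective_presheafToSheaf_map_iff (closedTop U) m.hom).1 inferInstance
  have hb := fun d => prodMap_bijective_of_star (U := U) m d
  have nat : ∀ {A B : Sheaf J (Type u)} (f : A ⟶ B) (d : C) z,
      (prod.fst : U ⨯ B ⟶ U).hom.app (op d) ((prod.map (𝟙 U) f).hom.app (op d) z) =
        (prod.fst : U ⨯ A ⟶ U).hom.app (op d) z ∧
      (prod.snd : U ⨯ B ⟶ B).hom.app (op d) ((prod.map (𝟙 U) f).hom.app (op d) z) =
        f.hom.app (op d) ((prod.snd : U ⨯ A ⟶ A).hom.app (op d) z) := by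
    intro A B f d z
    constructor
    · have : prod.map (𝟙 U) f ≫ prod.fst = (prod.fst : U ⨯ A ⟶ U) :=
        (prod.map_fst _ _).trans (Category.comp_id _)
      exact congrArg (fun t => t.hom.app (op d) z) this
    · exact congrArg (fun t => t.hom.app (op d) z) (prod.map_snd (𝟙 U) f)
  have hXs := (isSheaf_iff_isSheaf_of_type J X.obj).1 X.property
  have hinjective : ∀ c, Function.Injective (m.hom.app (op c)) := by
    intro c x y e
    have hS : Presheaf.equalizerSieve (F := X.obj) x y ∈ J c := by
      refine J.superset_covering ?_ (Presheaf.equalizerSieve_mem (closedTop U) m.hom x y e)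
      intro d g hg
      rcases hg with hg | ⟨⟨u⟩⟩
      · exact hg
      · obtain ⟨z₁, a₁, b₁⟩ := prod_exists u (X.obj.map g.op x)
        obtain ⟨z₂, a₂, b₂⟩ := prod_exists u (X.obj.map g.op y)
        have : z₁ = z₂ := by
          refine (hb d).1 (prod_ext ?_ ?_)
          · rw [(nat m d z₁).1, (nat m d z₂).1, a₁, a₂]
          · rw [(nat m d z₁).2, (nat m d z₂).2, b₁, b₂, NatTrans.naturality_apply,
              NatTrans.naturality_apply, e]
        change X.obj.map g.op x = X.obj.map g.op y
        rw [← b₁, ← b₂, this]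
    exact (hXs _ hS).isSeparatedFor.ext fun d g hg => hg
  have : Sheaf.IsLocallyInjective m :=
    Presheaf.isLocallyInjective_of_injective J m.hom fun c => hinjective c.unop
  have : Sheaf.IsLocallySurjective m := ⟨fun {c} y => by
      refine J.superset_covering ?_ (Presheaf.imageSieve_mem (closedTop U) m.hom (U := op c) y)
      intro d g hg
      rcases hg with hg | ⟨⟨u⟩⟩
      · exact hg
      · obtain ⟨w, a₁, b₁⟩ := prod_exists u (Y.obj.map g.op y)
        obtain ⟨z, rfl⟩ := (hb d).2 w
        exact ⟨(prod.snd : U ⨯ X ⟶ X).hom.app (op d) z, ((nat m d z).2).symm.trans b₁⟩⟩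
  exact (Sheaf.isLocallyBijective_iff_isIso m).1 ⟨inferInstance, inferInstance⟩

include hU adj in
theorem preservesFiniteLimits_of_adj : PreservesFiniteLimits L := by
  have := preservesFiniteLimits_closedPull hU
  exact preservesFiniteLimits_of_natIso ((closedAdj hU).leftAdjointUniq adj)

/-- The forgetful functor from objects over an open is fully faithful. -/
noncomputable def forgetFullyFaithful : (Over.forget U).FullyFaithful where
  preimage {A B} f := Over.homMk f (open_hom_ext hU _ _)

section
variable [(Over.star U).IsLeftAdjoint]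

include hU in
theorem isIso_counit_star : IsIso (Adjunction.ofIsLeftAdjoint (Over.star U)).counit :=
  let t : Adjunction.Triple (Over.forget U) (Over.star U) (Over.star U).rightAdjoint :=
    ⟨Over.forgetAdjStar U, Adjunction.ofIsLeftAdjoint (Over.star U)⟩
  have := (forgetFullyFaithful hU).full
  have := (forgetFullyFaithful hU).faithful
  t.isIso_unit_iff_isIso_counit.1 inferInstance

theorem isIso_star_map_closed {A B : (SGA4.closedCompl U).FullSubcategory} (g : A.obj ⟶ B.obj) :
    IsIso ((Over.star U).map g) := by
  have hA : IsIso (prod.fst : U ⨯ A.obj ⟶ U) := A.property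
  have hB : IsIso (prod.fst : U ⨯ B.obj ⟶ U) := B.property
  have : IsIso ((Over.forget U).map ((Over.star U).map g)) := by
    change IsIso ((Over.star U).map g).left
    rw [star_map_left]
    have : IsIso (prod.map (𝟙 U) g ≫ (prod.fst : U ⨯ B.obj ⟶ U)) := by
      rw [prod.map_fst, Category.comp_id]
      infer_instance
    exact IsIso.of_isIso_comp_right (prod.map (𝟙 U) g) (prod.fst : U ⨯ B.obj ⟶ U)
  exact isIso_of_reflects_iso _ (Over.forget U)

variable (L) in
/-- The functor to the glued category. -/
noncomputable def toGlued : Sheaf J (Type u) ⥤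
    Comma (𝟭 (SGA4.closedCompl U).FullSubcategory) ((Over.star U).rightAdjoint ⋙ L) where
  obj X :=
    { left := L.obj X
      right := (Over.star U).obj X
      hom := L.map ((Adjunction.ofIsLeftAdjoint (Over.star U)).unit.app X) }
  map {X Y} f :=
    { left := L.map f
      right := (Over.star U).map f
      w := by
        dsimp
        rw [← L.map_comp, ← L.map_comp]
        exact congrArg L.map ((Adjunction.ofIsLeftAdjoint (Over.star U)).unit.naturality f) }

include adj hU in
theorem isIso_toPullback (X : Sheaf J (Type u)) {P : Sheaf J (Type u)}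
    {p : P ⟶ (SGA4.closedCompl U).ι.obj (L.obj X)}
    {q : P ⟶ (Over.star U).rightAdjoint.obj ((Over.star U).obj X)}
    (h : IsPullback p q ((SGA4.closedCompl U).ι.map
        (L.map ((Adjunction.ofIsLeftAdjoint (Over.star U)).unit.app X)))
      (adj.unit.app ((Over.star U).rightAdjoint.obj ((Over.star U).obj X))))
    (k : X ⟶ P) (hp : k ≫ p = adj.unit.app X)
    (hq : k ≫ q = (Adjunction.ofIsLeftAdjoint (Over.star U)).unit.app X) : IsIso k := by
  have := isIso_counit_star hU
  have := preservesFiniteLimits_of_adj hU adj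
  have hη : ∀ T, IsIso (L.map (adj.unit.app T)) := fun T => inferInstance
  have : IsIso (L.map p) := (h.map L).isIso_fst_of_isIso
  have : IsIso (L.map k) := by
    have : IsIso (L.map k ≫ L.map p) := by rw [← L.map_comp, hp]; exact hη X
    exact IsIso.of_isIso_comp_right (L.map k) (L.map p)
  have : PreservesFiniteLimits (Over.star U) := inferInstance
  have : IsIso ((Over.star U).map ((SGA4.closedCompl U).ι.map
      (L.map ((Adjunction.ofIsLeftAdjoint (Over.star U)).unit.app X)))) :=
    isIso_star_map_closed _
  have : IsIso ((Over.star U).map q) := (h.map (Over.star U)).isIso_snd_of_isIso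
  have : IsIso ((Over.star U).map k) := by
    have : IsIso ((Over.star U).map k ≫ (Over.star U).map q) := by
      rw [← (Over.star U).map_comp, hq]
      have e := (Adjunction.ofIsLeftAdjoint (Over.star U)).left_triangle_components X
      exact ⟨(Adjunction.ofIsLeftAdjoint (Over.star U)).counit.app ((Over.star U).obj X), e,
        by rw [← cancel_mono ((Adjunction.ofIsLeftAdjoint (Over.star U)).counit.app ((Over.star U).obj X)),
          Category.assoc]; exact (congrArg (_ ≫ ·) e).trans ((Category.comp_id _).trans (Category.id_comp _).symm)⟩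
    exact IsIso.of_isIso_comp_right ((Over.star U).map k) ((Over.star U).map q)
  exact isIso_of_star_of_closed hU adj k

include adj hU in
theorem isEquivalence_toGlued : (toGlued (U := U) L).IsEquivalence := by
  have := isIso_counit_star hU
  have := preservesFiniteLimits_of_adj hU adj
  let adj' := Adjunction.ofIsLeftAdjoint (Over.star U)
  let ι := (SGA4.closedCompl U).ι
  let R := (Over.star U).rightAdjoint
  have key : ∀ X : Sheaf J (Type u), IsPullback (adj.unit.app X) (adj'.unit.app X)
      (ι.map (L.map (adj'.unit.app X))) (adj.unit.app (R.obj ((Over.star U).obj X))) := by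
    intro X
    have hP := IsPullback.of_hasPullback (ι.map (L.map (adj'.unit.app X)))
      (adj.unit.app (R.obj ((Over.star U).obj X)))
    have w : adj.unit.app X ≫ ι.map (L.map (adj'.unit.app X)) =
        adj'.unit.app X ≫ adj.unit.app (R.obj ((Over.star U).obj X)) :=
      (adj.unit.naturality (adj'.unit.app X)).symm
    let k := hP.lift (adj.unit.app X) (adj'.unit.app X) w
    have := isIso_toPullback hU adj X hP k (hP.lift_fst _ _ _) (hP.lift_snd _ _ _)
    exact hP.of_iso (asIso k).symm (Iso.refl _) (Iso.refl _) (Iso.refl _)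
      (by simp [k, ← cancel_epi k]) (by simp [k, ← cancel_epi k]) (by simp) (by simp)
  have : (toGlued (U := U) L).Faithful := ⟨fun {X Y f g} e => by
    refine (key Y).hom_ext ?_ ?_
    · exact ((adj.unit.naturality f).trans (congrArg (fun t => adj.unit.app X ≫ ι.map t)
        (congrArg CommaMorphism.left e))).trans (adj.unit.naturality g).symm
    · exact ((adj'.unit.naturality f).trans (congrArg (fun t => adj'.unit.app X ≫ R.map t)
        (congrArg CommaMorphism.right e))).trans (adj'.unit.naturality g).symm⟩
  have : (toGlued (U := U) L).Full := ⟨fun {X Y} φ => by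
    have hw : φ.left ≫ L.map (adj'.unit.app Y) = L.map (adj'.unit.app X) ≫ L.map (R.map φ.right) := φ.w
    have w : (adj.unit.app X ≫ ι.map φ.left) ≫ ι.map (L.map (adj'.unit.app Y)) =
        (adj'.unit.app X ≫ R.map φ.right) ≫ adj.unit.app (R.obj ((Over.star U).obj Y)) := by
      rw [Category.assoc, ← ι.map_comp]
      refine (congrArg (fun t => adj.unit.app X ≫ ι.map t) hw).trans ?_
      rw [← L.map_comp]
      exact (adj.unit.naturality (adj'.unit.app X ≫ R.map φ.right)).symm
    refine ⟨(key Y).lift _ _ w, ?_⟩
    apply CommaMorphism.ext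
    · apply (adj.homEquiv X _).injective
      rw [adj.homEquiv_unit, adj.homEquiv_unit]
      exact (adj.unit.naturality ((key Y).lift _ _ w)).symm.trans ((key Y).lift_fst _ _ w)
    · apply (adj'.homEquiv X _).injective
      rw [adj'.homEquiv_unit, adj'.homEquiv_unit]
      exact (adj'.unit.naturality ((key Y).lift _ _ w)).symm.trans ((key Y).lift_snd _ _ w)⟩
  have : (toGlued (U := U) L).EssSurj := ⟨fun T => by
    let P := pullback (ι.map T.hom) (adj.unit.app (R.obj T.right))
    let p : P ⟶ ι.obj T.left := pullback.fst (ι.map T.hom) (adj.unit.app (R.obj T.right))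
    let q : P ⟶ R.obj T.right := pullback.snd (ι.map T.hom) (adj.unit.app (R.obj T.right))
    have h : IsPullback p q (ι.map T.hom) (adj.unit.app (R.obj T.right)) :=
      IsPullback.of_hasPullback _ _
    have : IsIso (L.map (adj.unit.app (R.obj T.right))) := inferInstance
    have : IsIso (L.map p) := (h.map L).isIso_fst_of_isIso
    have : IsIso ((Over.star U).map (ι.map T.hom)) := isIso_star_map_closed _
    have : IsIso ((Over.star U).map q) := (h.map (Over.star U)).isIso_snd_of_isIso
    have : IsIso adj.counit := inferInstance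
    have : IsIso (adj.counit.app T.left) := inferInstance
    have : IsIso (adj'.counit.app T.right) := inferInstance
    refine ⟨P, ⟨Comma.isoMk ((asIso (L.map p)).trans (asIso (adj.counit.app T.left)))
      ((asIso ((Over.star U).map q)).trans (asIso (adj'.counit.app T.right))) ?_⟩⟩
    change (L.map p ≫ adj.counit.app T.left) ≫ T.hom =
      L.map (adj'.unit.app P) ≫ L.map (R.map ((Over.star U).map q ≫ adj'.counit.app T.right))
    have e : adj'.unit.app P ≫ R.map ((Over.star U).map q ≫ adj'.counit.app T.right) = q := by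
      rw [R.map_comp, ← Category.assoc]
      refine (congrArg (· ≫ R.map (adj'.counit.app T.right)) (adj'.unit.naturality q).symm).trans ?_
      exact (Category.assoc _ _ _).trans
        ((congrArg (q ≫ ·) (adj'.right_triangle_components T.right)).trans (Category.comp_id q))
    rw [← L.map_comp, e, Category.assoc]
    have n : adj.counit.app T.left ≫ T.hom = L.map (ι.map T.hom) ≫ adj.counit.app _ :=
      (adj.counit.naturality T.hom).symm
    rw [n, ← L.map_comp_assoc, h.w, L.map_comp_assoc]
    exact (congrArg (L.map q ≫ ·) (adj.left_triangle_components _)).trans (Category.comp_id _)⟩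
  exact {}

end

end Groth.Agent.ClosedOpen
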